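import Groth.Agent.S2958
import Groth.Agent.S0427
import Groth.Agent.RedSub.K199.HensSec
import Groth.Agent.NonAbH1.K552.VlGal
import Groth.Agent.NonAbH1.K552.VlSt
import Groth.Agent.Sga3B.BcIso
import Groth.Agent.Sga3B.SplitIso848
import Groth.Agent.Sga3B.Hens.SplitGal

/-!
# A finite étale Galois extension of a henselian valuation ring which splits a reductive group and a smooth
surjective scheme
-/

set_option autoImplicit false

universe u

open CategoryTheory MonoidalCategory CartesianMonoidalCategory MonObj GrpObj AlgebraicGeometry Limits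

namespace K542.GalW

open Groth.Agent.Sga3B

/-- A splitting over `f` gives a splitting over every morphism which factors through `f`. -/
theorem nonempty_splitRed_of_comp {S S' S'' : Scheme.{u}} {q : S'' ⟶ S'} {g : S' ⟶ S} {h : S'' ⟶ S}
    (hh : q ≫ g = h) {G : Over S} [GrpObj G] (D : Nonempty (Red.SplitRed (Red.bc g G))) :
    Nonempty (Red.SplitRed (Red.bc h G)) := by
  subst hh
  obtain ⟨D⟩ := D
  exact ⟨SplitIso848.splitOfIso (BcIso.bcCompIso q g G).symm
    (SplitBc264.splitRedBc q D (Hens.SplitFormOf.isReductive_bc q D.reductive)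
      (MaxTorBc636.isMaximalTorus_bc q D.reductive D.maximalTorus))⟩

/-- The integral closure of a henselian valuation ring in a finite Galois extension is a local valuation ring,
if it is finite étale. -/
theorem isLocalRing_and_valuationRing (V : Type u) [CommRing V] [IsDomain V] [ValuationRing V]
    [HenselianLocalRing V] (L : Type u) [Field L] [Algebra (FractionRing V) L] [Algebra V L]
    [IsScalarTower V (FractionRing V) L] [FiniteDimensional (FractionRing V) L] [IsGalois (FractionRing V) L]
    [Algebra.Etale V (integralClosure V L)] [Module.Finite V (integralClosure V L)] :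
    IsLocalRing (integralClosure V L) ∧ ValuationRing (integralClosure V L) := by
  have hloc : IsLocalRing (integralClosure V L) :=
    Groth.Agent.S0427.isLocalRing_of_finite V (integralClosure V L)
  refine ⟨hloc, ?_⟩
  have hst := K552.VlSt.st (V := V) (K := FractionRing V) (L := L)
  rw [ValuationRing.iff_dvd_total]
  refine ⟨fun a b => ?_⟩
  obtain ⟨c, s, hs, h⟩ := hst.val (IsLocalRing.maximalIdeal _) a b
  have hu : IsUnit s := by
    by_contra hc
    exact hs ((IsLocalRing.mem_maximalIdeal _).2 hc)
  rcases h with h | h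
  · right
    rw [← hu.dvd_mul_left (a := b)]
    exact ⟨c, by rw [h, mul_comm]⟩
  · left
    rw [← hu.dvd_mul_left (a := a)]
    exact ⟨c, by rw [h, mul_comm]⟩

/-- **The splitting extension.** -/
theorem exists_W (V : Type u) [CommRing V] [IsDomain V] [ValuationRing V] [HenselianLocalRing V]
    {G : Over (Spec (CommRingCat.of V))} [GrpObj G] (hG : Red.IsReductive G)
    {E : Over (Spec (CommRingCat.of V))} (hE : Smooth E.hom) (hs : Surjective E.hom) :
    ∃ (L : Type u) (_ : Field L) (_ : Algebra (FractionRing V) L) (_ : Algebra V L)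
      (_ : IsScalarTower V (FractionRing V) L) (_ : FiniteDimensional (FractionRing V) L)
      (_ : IsGalois (FractionRing V) L),
      Algebra.Etale V (integralClosure V L) ∧ Module.Finite V (integralClosure V L) ∧
      IsLocalRing (integralClosure V L) ∧ ValuationRing (integralClosure V L) ∧
      IsFractionRing (integralClosure V L) L ∧
      (∃ s : Spec (CommRingCat.of (integralClosure V L)) ⟶ E.left,
        s ≫ E.hom = Spec.map (CommRingCat.ofHom (algebraMap V (integralClosure V L)))) ∧
      Nonempty (Red.SplitRed (Red.bc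
        (Spec.map (CommRingCat.ofHom (algebraMap V (integralClosure V L)))) G)) := by
  obtain ⟨U, f, hf, ⟨y, hy⟩, ⟨D⟩⟩ :=
    Groth.Agent.S2958.result G hG (IsLocalRing.closedPoint V : Spec (CommRingCat.of V))
  obtain ⟨e, he⟩ := hs.surj (IsLocalRing.closedPoint V : Spec (CommRingCat.of V))
  obtain ⟨z, hz1, hz2⟩ := Scheme.Pullback.exists_preimage_pullback (f := E.hom) (g := f) e y
    (he.trans hy.symm)
  have hcl : IsLocalRing.closedPoint V ∈ Set.range (pullback.fst E.hom f ≫ E.hom) :=
    ⟨z, by rw [Scheme.Hom.comp_apply, hz1, he]⟩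
  obtain ⟨A', _, hA', _, hfin, hfree, het, hlh, σ, hσ⟩ :=
    K199.HensSec.exists_finite_etale_section (pullback.fst E.hom f ≫ E.hom) hcl
  have hic : IsIntegrallyClosed V := K552.VlSt.isIntegrallyClosed V
  obtain ⟨L, _, _, _, _, hfd, hgal, hetW, hfinW, ⟨φ⟩⟩ := K552.VlGal.exists_galois A' (V := V)
  obtain ⟨h1, h2⟩ := isLocalRing_and_valuationRing V L
  have h3 : IsFractionRing (integralClosure V L) L :=
    integralClosure.isFractionRing_of_finite_extension (FractionRing V) L
  have hφ : Spec.map (CommRingCat.ofHom φ.toRingHom) ≫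
      Spec.map (CommRingCat.ofHom (algebraMap V A')) =
      Spec.map (CommRingCat.ofHom (algebraMap V (integralClosure V L))) := by
    rw [← Spec.map_comp, ← CommRingCat.ofHom_comp]
    congr 2
    exact φ.comp_algebraMap
  refine ⟨L, inferInstance, inferInstance, inferInstance, inferInstance, hfd, hgal, hetW, hfinW, h1, h2, h3,
    ⟨Spec.map (CommRingCat.ofHom φ.toRingHom) ≫ σ ≫ pullback.fst E.hom f, ?_⟩, ?_⟩
  · rw [Category.assoc, Category.assoc, hσ, hφ]
  · refine nonempty_splitRed_of_comp
      (q := Spec.map (CommRingCat.ofHom φ.toRingHom) ≫ σ ≫ pullback.snd E.hom f) (g := f) ?_ ⟨D⟩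
    rw [Category.assoc, Category.assoc, ← pullback.condition, hσ, hφ]

end K542.GalW
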